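import Cfsg.Agent.Lib.LyC.Out
import Cfsg.Agent.Lib.McL27.MFinal
import Cfsg.Agent.Lib.Leech.Export
/-! The centraliser of an element of order 3 of the Lyons group is the triple cover of McL -/
set_option autoImplicit false
set_option maxRecDepth 100000
namespace H60.LyC
open H54 H54.Ly Cfsg Cfsg.Spor Subgroup H40.Alt Equiv Sum
/-- the centraliser of `x` -/
noncomputable abbrev C3 : Subgroup Ly := centralizer {Y 10}
theorem mem_C3 {a : List ℕ} (h : evW x (a ++ ([1, 2, 0, 3] ++ invA a (invA [1, 2, 0, 3] []))) = 1) : evW x a ∈ C3 :=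
  mem_centralizer_singleton_iff.2 (mul_inv_eq_iff_eq_mul.1 (evW_cm h))
theorem x_cube : Y 10 ^ 3 = 1 := by
  have : evW x ([1, 2, 0, 3] ++ ([1, 2, 0, 3] ++ [1, 2, 0, 3])) = 1 := rels _ (by decide +kernel)
  rwa [evW_append, evW_append, ← pow_three] at this
/-- `x` in its centraliser -/
noncomputable def x3 : C3 := ⟨Y 10, mem_centralizer_singleton_iff.2 rfl⟩
theorem x3_mem : x3 ∈ center C3 := mem_center_iff.2 fun g => Subtype.ext (mem_centralizer_singleton_iff.1 g.2)
theorem orderOf_x : orderOf (Y 10) = 3 :=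
  have : Fact (Nat.Prime 3) := ⟨by norm_num⟩
  orderOf_eq_prime x_cube fun e => absurd (pr_x.uniq (e ▸ Pr.one : Pr π _ 1)) (by decide +kernel)
theorem normal_x3 : (zpowers x3).Normal := ⟨fun a ha g => by
  rwa [mem_center_iff.1 (zpowers_le_of_mem x3_mem ha), mul_inv_cancel_right]⟩
theorem y_mem (i : Fin 6) : yy (j6 i) ∈ C3 := by
  refine mem_centralizer_singleton_iff.2 (mul_inv_eq_iff_eq_mul.1 (cov.eq_of_cube pr_x ?_ x_cube
    (by rw [conj_pow, x_cube]; simp)))
  convert ((cov.pr_y (j6 i)).mul pr_x).mul (cov.pr_y (j6 i)).inv using 1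
  revert i; decide +kernel
/-- `t` in the centraliser of `x` -/
noncomputable def t3 : C3 := ⟨tt, mem_centralizer_singleton_iff.2 (cov.comm pr_x.1).symm⟩
theorem cm3 : Cm t3 fun i => ⟨_, y_mem i⟩ :=
  ⟨fun e => cm.ne (congrArg Subtype.val e), Subtype.ext cm.sq, fun _ => Subtype.ext (cm.cube _),
    fun i j e => Subtype.ext ((cm.comp j6).rel i j e)⟩
theorem cube_z {z : C3} (h : z ∈ zpowers x3) : z ^ 3 = 1 := by
  obtain ⟨k, rfl⟩ := h
  show (x3 ^ k) ^ 3 = 1
  rw [← zpow_natCast, ← zpow_mul, mul_comm, zpow_mul, zpow_natCast, show x3 ^ 3 = 1 from Subtype.ext x_cube,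
    one_zpow]
theorem conj_t3 {c : C3} (h : t3⁻¹ * (c * t3 * c⁻¹) ∈ zpowers x3) : c * t3 * c⁻¹ = t3 := by
  have h1 : (t3 * (t3⁻¹ * (c * t3 * c⁻¹))) ^ 2 = 1 := by
    rw [mul_inv_cancel_left, conj_pow, pow_two, cm3.sq]; simp
  rw [(show Commute t3 _ from mem_center_iff.1 (zpowers_le_of_mem x3_mem h) _).mul_pow, pow_two t3, cm3.sq,
    one_mul] at h1
  have h2 := cube_z h
  rw [pow_succ, h1, one_mul] at h2
  exact (inv_mul_eq_one.1 h2).symm
/-- the centraliser of `x` is a triple cover of McL -/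
theorem exists_mcl : ∃ ξ : C3 →* McL, IsStemExtension ξ ∧ ξ.ker = zpowers x3 ∧ center C3 = zpowers x3 := by
  have := normal_x3
  let q := QuotientGroup.mk' (zpowers x3)
  have h := cm3.map_hom q fun e => cm3.cube_ne (cube_z ((QuotientGroup.eq_one_iff _).1 e))
  have key : ∀ c, q c * q t3 * (q c)⁻¹ = q t3 → c * t3 * c⁻¹ = t3 := fun c e =>
    conj_t3 (QuotientGroup.eq.1 e.symm)
  have h1 : closure (Set.range (q ∘ fun i => ⟨_, y_mem i⟩)) = centralizer {q t3} := by
    refine le_antisymm h.le_cent fun c hc => ?_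
    obtain ⟨c, rfl⟩ := QuotientGroup.mk'_surjective _ c
    have e := congrArg Subtype.val (mul_inv_eq_iff_eq_mul.1 (key c
      (mul_inv_eq_iff_eq_mul.2 (mem_centralizer_singleton_iff.1 hc))))
    obtain ⟨k, hk⟩ := cov.cent_three j6 pr_x x_cube (p := inl 6) (by decide +kernel) (by decide +kernel)
      (by decide +kernel) (mem_centralizer_singleton_iff.2 e) (mem_centralizer_singleton_iff.1 c.2)
    have e1 : q (x3 ^ k * c) = q c := by
      rw [map_mul, show q (x3 ^ k) = 1 from (QuotientGroup.eq_one_iff _).2 (npow_mem_zpowers _ _), one_mul]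
    rw [Set.range_comp, ← MonoidHom.map_closure]
    refine ⟨x3 ^ k * c, (mem_map_iff_mem C3.subtype_injective).1 ?_, e1⟩
    rw [MonoidHom.map_closure, ← Set.range_comp]
    exact hk
  let g : C3 := ⟨Y 11, mem_C3 (rels _ (by decide +kernel))⟩
  have h2 : q g * q t3 * (q g)⁻¹ ≠ q t3 := fun e => by
    have := pr_s
    rw [show Y 11 * tt * (Y 11)⁻¹ = tt from congrArg Subtype.val (key g e)] at this
    exact absurd (this.uniq cov.pr_t) (by decide +kernel)
  obtain ⟨e⟩ := H27.MP.mcl_of_conj (orderOf_eq_prime ((pow_two _).trans h.sq) h.ne) (h.nonsplit (by norm_num) h1)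
    (congrArg q (Subtype.ext (cov.comm pr_s.1) : g * t3 * g⁻¹ * t3 = t3 * (g * t3 * g⁻¹))) h2
  have hk : (e.toMonoidHom.comp q).ker = zpowers x3 := by
    ext a
    exact e.map_eq_one_iff.trans (QuotientGroup.eq_one_iff a)
  refine ⟨e.toMonoidHom.comp q, ⟨e.surjective.comp (QuotientGroup.mk'_surjective _),
    hk.trans_le (zpowers_le_of_mem x3_mem), hk.trans_le (zpowers_le_of_mem ?_)⟩, hk,
    le_antisymm (fun c hc => ?_) (zpowers_le_of_mem x3_mem)⟩
  · let a : C3 := ⟨_, mem_C3 (a := [0, 6, 15, 5, 7, 17, 13, 1, 13]) (rels _ (by decide +kernel))⟩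
    let b : C3 := ⟨_, mem_C3 (a := [19, 6, 8, 7, 1, 14, 8, 18]) (rels _ (by decide +kernel))⟩
    have : a * b * a⁻¹ = x3 * b := Subtype.ext ((evW_cm (c := [1, 2, 0, 3] ++ [19, 6, 8, 7, 1, 14, 8, 18])
      (rels _ (by decide +kernel))).trans (evW_append _ _ _))
    rw [← mul_inv_eq_iff_eq_mul.2 this]
    exact commutator_mem_commutator (mem_top a) (mem_top b)
  · have := H16.simple_sMcL
    have := e.isSimpleGroup
    have h3 : q c ∈ center _ := mem_center_iff.2 fun a => by
      obtain ⟨a, rfl⟩ := QuotientGroup.mk'_surjective _ a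
      exact congrArg q (mem_center_iff.1 hc a)
    rcases this.eq_bot_or_eq_top_of_normal (center _) inferInstance with e | e
    · exact (QuotientGroup.eq_one_iff _).1 (e ▸ h3 : q c ∈ ⊥)
    · exact absurd (mul_inv_eq_iff_eq_mul.2 (mem_center_iff.1 (e ▸ mem_top (q t3)) _)) h2
theorem card_x3 : Nat.card (zpowers x3) = 3 := by
  rw [Nat.card_zpowers, ← orderOf_coe]; exact orderOf_x
theorem index_C3 : C3.index = 19212250 := by
  obtain ⟨ξ, h, hk, -⟩ := exists_mcl
  have h1 := ξ.ker.card_mul_index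
  rw [index_ker, MonoidHom.range_eq_top.2 h.1, card_top, H16.card_sMcL, hk, card_x3] at h1
  have := C3.card_mul_index
  rw [← h1, card] at this; omega
end H60.LyC
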